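import Groth.Agent.EtShLib.Loc
import Mathlib

/-!
The point of a scheme attached to an element of a fibre functor on the small étale site.
-/

set_option autoImplicit false
set_option linter.style.haveILetI false
set_option backward.isDefEq.respectTransparency false
set_option backward.isDefEq.respectTransparency.types false
set_option maxHeartbeats 1000000

universe u

open CategoryTheory CategoryTheory.Limits AlgebraicGeometry Opposite TopologicalSpace

noncomputable section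

namespace Groth.Agent.EtPointGeom

variable {S : Scheme.{u}} (p : GrothendieckTopology.Point.{u} S.smallEtaleTopology)

/-- An open subscheme as an object of the small étale site. -/
def opn (U : S.Etale) (W : U.left.Opens) : S.Etale :=
  haveI := U.prop
  Scheme.Etale.mk (W.ι ≫ U.hom)

/-- Its inclusion. -/
def opnι (U : S.Etale) (W : U.left.Opens) : opn U W ⟶ U :=
  MorphismProperty.Over.homMk W.ι rfl

/-- Morphisms landing in an open factor through it. -/
theorem exists_fac {V U : S.Etale} (f : V ⟶ U) (W : U.left.Opens)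
    (h : Set.range f.left ⊆ (W : Set U.left)) : ∃ g : V ⟶ opn U W, g ≫ opnι U W = f :=
  ⟨MorphismProperty.Over.homMk (IsOpenImmersion.lift W.ι f.left (h.trans (Scheme.Opens.range_ι W).ge))
      (by
        show IsOpenImmersion.lift W.ι f.left _ ≫ W.ι ≫ U.hom = V.hom
        rw [IsOpenImmersion.lift_fac_assoc]
        exact MorphismProperty.Over.w f),
    MorphismProperty.Over.Hom.ext (IsOpenImmersion.lift_fac _ _ _)⟩

/-- The element lies over the open. -/
def InOpen {U : S.Etale} (u : p.fiber.obj U) (W : U.left.Opens) : Prop :=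
  ∃ w : p.fiber.obj (opn U W), p.fiber.map (opnι U W) w = u

theorem fmap_comp {X Y Z : S.Etale} (f : X ⟶ Y) (g : Y ⟶ Z) (x : p.fiber.obj X) :
    p.fiber.map (f ≫ g) x = p.fiber.map g (p.fiber.map f x) := by
  rw [Functor.map_comp]; rfl

variable {p}

theorem inOpen_of_map {U V : S.Etale} {v : p.fiber.obj V} (f : V ⟶ U) (W : U.left.Opens)
    (h : Set.range f.left ⊆ (W : Set U.left)) : InOpen p (p.fiber.map f v) W := by
  obtain ⟨g, hg⟩ := exists_fac f W h
  exact ⟨p.fiber.map g v, by rw [← fmap_comp, hg]⟩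

theorem range_opnι (U : S.Etale) (W : U.left.Opens) : Set.range (opnι U W).left = (W : Set U.left) :=
  Scheme.Opens.range_ι W

theorem inOpen_mono {U : S.Etale} {u : p.fiber.obj U} {W W' : U.left.Opens} (h : W ≤ W')
    (hu : InOpen p u W) : InOpen p u W' := by
  obtain ⟨w, rfl⟩ := hu
  exact inOpen_of_map _ _ (by rw [range_opnι]; exact h)

theorem inOpen_top {U : S.Etale} (u : p.fiber.obj U) : InOpen p u ⊤ := by
  have := inOpen_of_map (v := u) (𝟙 U) ⊤ (fun _ _ => trivial)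
  have e : p.fiber.map (𝟙 U) u = u := congr($(p.fiber.map_id U) u)
  rwa [e] at this

/-- two elements mapping to the same one have a common refinement -/
theorem exists_common {U V₁ V₂ : S.Etale} (f₁ : V₁ ⟶ U) (f₂ : V₂ ⟶ U) (v₁ : p.fiber.obj V₁)
    (v₂ : p.fiber.obj V₂) (h : p.fiber.map f₁ v₁ = p.fiber.map f₂ v₂) :
    ∃ (Z : S.Etale) (z : p.fiber.obj Z) (g₁ : Z ⟶ V₁) (g₂ : Z ⟶ V₂),
      p.fiber.map g₁ z = v₁ ∧ p.fiber.map g₂ z = v₂ ∧ g₁ ≫ f₁ = g₂ ≫ f₂ := by
  obtain ⟨Z₀, a₁, a₂, -⟩ := IsCofilteredOrEmpty.cone_objs (C := p.fiber.Elements) ⟨V₁, v₁⟩ ⟨V₂, v₂⟩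
  let b₁ : Z₀ ⟶ ⟨U, p.fiber.map f₁ v₁⟩ := a₁ ≫ ⟨f₁, rfl⟩
  let b₂ : Z₀ ⟶ ⟨U, p.fiber.map f₁ v₁⟩ := a₂ ≫ ⟨f₂, h.symm⟩
  obtain ⟨Z, c, hc⟩ := IsCofilteredOrEmpty.cone_maps b₁ b₂
  exact ⟨Z.1, Z.2, (c ≫ a₁).1, (c ≫ a₂).1, (c ≫ a₁).2, (c ≫ a₂).2, by
    simpa [b₁, b₂] using congrArg Subtype.val hc⟩

theorem inOpen_inf {U : S.Etale} {u : p.fiber.obj U} {W W' : U.left.Opens} (h : InOpen p u W)
    (h' : InOpen p u W') : InOpen p u (W ⊓ W') := by
  obtain ⟨w, hw⟩ := h
  obtain ⟨w', hw'⟩ := h'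
  obtain ⟨Z, z, g, g', hg, hg', hgg⟩ := exists_common _ _ w w' (hw.trans hw'.symm)
  rw [← hw, ← hg, ← fmap_comp]
  refine inOpen_of_map _ _ ?_
  rintro _ ⟨t, rfl⟩
  refine ⟨?_, ?_⟩
  · rw [← range_opnι U W]; exact ⟨g.left t, rfl⟩
  · rw [hgg, ← range_opnι U W']; exact ⟨g'.left t, rfl⟩

/-- Covering families lift elements. -/
theorem exists_lift_cover {U : S.Etale} {ι : Type u} (Z : ι → S.Etale) (f : ∀ i, Z i ⟶ U)
    (hc : ∀ x : U.left, ∃ i, x ∈ Set.range (f i).left) (u : p.fiber.obj U) :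
    ∃ (i : ι) (z : p.fiber.obj (Z i)), p.fiber.map (f i) z = u := by
  have hmem : Sieve.ofArrows Z f ∈ S.smallEtaleTopology U := by
    rw [Scheme.ofArrows_mem_smallEtaleTopology_iff]
    exact Set.eq_univ_of_forall fun x => Set.mem_iUnion.mpr (hc x)
  obtain ⟨Y, g, ⟨_, a, _, ⟨i⟩, rfl⟩, y, hy⟩ := p.jointly_surjective _ hmem u
  exact ⟨i, p.fiber.map a y, by rw [← fmap_comp, hy]⟩

theorem exists_inOpen_of_iSup {U : S.Etale} {u : p.fiber.obj U} {ι : Type u} (W : ι → U.left.Opens)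
    (h : InOpen p u (iSup W)) : ∃ i, InOpen p u (W i) := by
  obtain ⟨w, hw⟩ := h
  have hfac : ∀ i, ∃ g : opn U (W i) ⟶ opn U (iSup W), g ≫ opnι U (iSup W) = opnι U (W i) := fun i =>
    exists_fac _ _ (by rw [range_opnι]; exact le_iSup W i)
  choose g hg using hfac
  obtain ⟨i, z, hz⟩ := exists_lift_cover (fun i => opn U (W i)) g (fun x => by
    obtain ⟨i, hi⟩ := Opens.mem_iSup.1 (show (opnι U (iSup W)).left x ∈ iSup W from
      (range_opnι U (iSup W)).le ⟨x, rfl⟩)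
    obtain ⟨y, hy⟩ := (range_opnι U (W i)).ge hi
    refine ⟨i, y, ?_⟩
    apply (iSup W).ι.isOpenEmbedding.injective
    show ((g i).left ≫ (opnι U (iSup W)).left) y = (opnι U (iSup W)).left x
    rw [← hy]
    exact congr(($(hg i)).left y)) w
  exact ⟨i, z, by rw [← hg i, fmap_comp, hz, hw]⟩

variable (p)

/-- the opens avoided by an element -/
def avoid {U : S.Etale} (u : p.fiber.obj U) : U.left.Opens :=
  ⨆ W : {W : U.left.Opens // ¬ InOpen p u W}, W.1

theorem inOpen_iff {U : S.Etale} (u : p.fiber.obj U) (W : U.left.Opens) :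
    InOpen p u W ↔ ¬ W ≤ avoid p u := by
  refine ⟨fun h hle => ?_, fun h => ?_⟩
  · obtain ⟨i, hi⟩ := exists_inOpen_of_iSup _ (inOpen_mono hle h)
    exact i.2 hi
  · by_contra hW
    exact h (le_iSup (fun W : {W : U.left.Opens // ¬ InOpen p u W} => W.1) ⟨W, hW⟩)

theorem isIrreducible_compl_avoid {U : S.Etale} (u : p.fiber.obj U) :
    IsIrreducible ((avoid p u : Set U.left)ᶜ) := by
  refine ⟨?_, fun A B hA hB => ?_⟩
  · by_contra h
    rw [Set.not_nonempty_iff_eq_empty, Set.compl_empty_iff] at h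
    exact (inOpen_iff p u ⊤).1 (inOpen_top u) fun x _ => h.ge trivial
  · rintro ⟨a, ha, haA⟩ ⟨b, hb, hbB⟩
    have hA' : InOpen p u ⟨A, hA⟩ := (inOpen_iff p u _).2 fun h => ha (h haA)
    have hB' : InOpen p u ⟨B, hB⟩ := (inOpen_iff p u _).2 fun h => hb (h hbB)
    obtain ⟨x, hx, hxn⟩ := SetLike.not_le_iff_exists.1 ((inOpen_iff p u _).1 (inOpen_inf hA' hB'))
    exact ⟨x, hxn, hx⟩

/-- **The point of the scheme attached to an element.** -/
def pt {U : S.Etale} (u : p.fiber.obj U) : U.left :=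
  (isIrreducible_compl_avoid p u).genericPoint

theorem mem_iff {U : S.Etale} (u : p.fiber.obj U) (W : U.left.Opens) : pt p u ∈ W ↔ InOpen p u W := by
  rw [inOpen_iff]
  have hc : IsClosed ((avoid p u : Set U.left)ᶜ) := (avoid p u).isOpen.isClosed_compl
  have hx : IsGenericPoint (pt p u) ((avoid p u : Set U.left)ᶜ) := by
    have := (isIrreducible_compl_avoid p u).isGenericPoint_genericPoint_closure
    rwa [hc.closure_eq] at this
  show pt p u ∈ (W : Set U.left) ↔ _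
  rw [hx.mem_open_set_iff W.isOpen, SetLike.not_le_iff_exists]
  exact ⟨fun ⟨y, h1, h2⟩ => ⟨y, h2, h1⟩, fun ⟨y, h1, h2⟩ => ⟨y, h2, h1⟩⟩

/-- The point is natural. -/
theorem pt_map {U V : S.Etale} (f : U ⟶ V) (u : p.fiber.obj U) :
    f.left (pt p u) = pt p (p.fiber.map f u) := by
  refine Inseparable.eq (inseparable_iff_forall_isOpen.2 fun A hA => ?_)
  show pt p u ∈ f.left ⁻¹ᵁ ⟨A, hA⟩ ↔ pt p _ ∈ (⟨A, hA⟩ : V.left.Opens)
  rw [mem_iff, mem_iff]
  constructor
  · rintro ⟨w, rfl⟩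
    rw [← fmap_comp]
    refine inOpen_of_map _ _ ?_
    rintro _ ⟨t, rfl⟩
    exact (range_opnι U (f.left ⁻¹ᵁ ⟨A, hA⟩)).le ⟨t, rfl⟩
  · rintro ⟨w, hw⟩
    obtain ⟨Z, z, g, g', hg, -, hgg⟩ := exists_common f _ u w hw.symm
    rw [← hg]
    refine inOpen_of_map _ _ ?_
    rintro _ ⟨t, rfl⟩
    show f.left (g.left t) ∈ (⟨A, hA⟩ : V.left.Opens)
    have e : f.left (g.left t) = (opnι V ⟨A, hA⟩).left (g'.left t) := congr(($hgg).left t)
    rw [e]
    exact (range_opnι V ⟨A, hA⟩).le ⟨g'.left t, rfl⟩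

/-- An element lifts along an étale map with the point in its image. -/
theorem exists_lift {U V : S.Etale} (g : V ⟶ U) (u : p.fiber.obj U) (h : pt p u ∈ Set.range g.left) :
    ∃ v : p.fiber.obj V, p.fiber.map g v = u := by
  haveI := Groth.Agent.EtShLib.etale_left g
  let W₀ : U.left.Opens := ⟨Set.range g.left, g.left.isOpenMap.isOpen_range⟩
  obtain ⟨w, hw⟩ := (mem_iff p u W₀).1 h
  obtain ⟨g', hg'⟩ := exists_fac g W₀ le_rfl
  obtain ⟨-, v, hv⟩ := exists_lift_cover (ι := PUnit.{u + 1}) (fun _ => V) (fun _ => g') (fun x => by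
    obtain ⟨y, hy⟩ := (range_opnι U W₀).le ⟨x, rfl⟩
    refine ⟨⟨⟩, y, ?_⟩
    apply W₀.ι.isOpenEmbedding.injective
    show (g'.left ≫ (opnι U W₀).left) y = (opnι U W₀).left x
    rw [← hy]
    exact congr(($hg').left y)) w
  exact ⟨v, by rw [← hg', fmap_comp, hv, hw]⟩

/-- The image of the point in the base does not depend on the element. -/
theorem pt_base {U V : S.Etale} (u : p.fiber.obj U) (v : p.fiber.obj V) :
    U.hom (pt p u) = V.hom (pt p v) := by
  obtain ⟨Z, a, b, -⟩ := IsCofilteredOrEmpty.cone_objs (C := p.fiber.Elements) ⟨U, u⟩ ⟨V, v⟩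
  have ha := pt_map p a.1 Z.2
  have hb := pt_map p b.1 Z.2
  rw [a.2] at ha
  rw [b.2] at hb
  show U.hom _ = V.hom _
  refine (congrArg U.hom ha).symm.trans (Eq.trans ?_ (congrArg V.hom hb))
  exact (congr($(MorphismProperty.Over.w a.1) (pt p Z.2))).trans
    (congr($(MorphismProperty.Over.w b.1) (pt p Z.2))).symm

end Groth.Agent.EtPointGeom
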