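import Groth.Agent.EtPointGeom.Geometric
import Groth.Agent.AlgSpLib.StalkPoint
import Groth.Prelude.Def_AlgSpOX3

/-!
Restriction of a point of the small étale site of a sheaf to a chart.
-/

set_option autoImplicit false
set_option linter.style.haveILetI false
set_option backward.isDefEq.respectTransparency false
set_option backward.isDefEq.respectTransparency.types false
set_option maxHeartbeats 1000000

universe u

open CategoryTheory CategoryTheory.Limits AlgebraicGeometry Opposite

noncomputable section

namespace Groth.Agent.EtPointChart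

open _root_.AlgSp

variable {S : Scheme.{u}} {X : Sp S} (E₀ : EtOver X)

/-- The chart functor. -/
abbrev chart : E₀.obj.left.left.Etale ⥤ EtOver X := EtOver.ofChart E₀.obj.hom E₀.property

/-- The structure map into the chart. -/
def str (V : E₀.obj.left.left.Etale) : (chart E₀).obj V ⟶ E₀ :=
  EtOver.homMk (E := (chart E₀).obj V) (E' := E₀) (EtOver.homOfEtale V) rfl

/-- The chart functor, to the slice. -/
def sliceFun : E₀.obj.left.left.Etale ⥤ Over E₀ where
  obj V := Over.mk (str E₀ V)
  map {V V'} f := Over.homMk ((chart E₀).map f) (EtOver.hom_ext _ _ (Over.OverMorphism.ext (by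
    exact MorphismProperty.Over.w f)))
  map_id V := Over.OverMorphism.ext ((chart E₀).map_id V)
  map_comp f g := Over.OverMorphism.ext ((chart E₀).map_comp f g)

instance : (sliceFun E₀).Faithful where
  map_injective {V V'} f g h := (chart E₀).map_injective (congrArg CommaMorphism.left h)

instance : (sliceFun E₀).Full where
  map_surjective {V V'} g := by
    have hw : g.left.hom.left.left ≫ V'.hom = V.hom :=
      congrArg (fun k => k.hom.left.left) (Over.w g)
    exact ⟨MorphismProperty.Over.homMk g.left.hom.left.left hw,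
      Over.OverMorphism.ext (EtOver.hom_ext _ _ (Over.OverMorphism.ext rfl))⟩

instance : (sliceFun E₀).EssSurj where
  mem_essImage Z := by
    let g := Z.hom
    haveI : Etale g.hom.left.left := EtOver.etale_left g
    let V : E₀.obj.left.left.Etale := Scheme.Etale.mk g.hom.left.left
    have hl : V.hom ≫ E₀.obj.left.hom = Z.left.obj.left.hom := Over.w g.hom.left
    let a : (chart E₀).obj V ⟶ Z.left := EtOver.homMk (E := (chart E₀).obj V) (E' := Z.left)
      (Over.homMk (𝟙 _) (by
        show 𝟙 _ ≫ Z.left.obj.left.hom = V.hom ≫ E₀.obj.left.hom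
        rw [Category.id_comp, hl])) (by
        show (yon S).map _ ≫ Z.left.obj.hom = (yon S).map (EtOver.homOfEtale V) ≫ E₀.obj.hom
        rw [← EtOver.w g, ← Category.assoc, ← Functor.map_comp]
        congr 2)
    let b : Z.left ⟶ (chart E₀).obj V := EtOver.homMk (E := Z.left) (E' := (chart E₀).obj V)
      (Over.homMk (𝟙 _) (by
        show 𝟙 _ ≫ V.hom ≫ E₀.obj.left.hom = Z.left.obj.left.hom
        rw [Category.id_comp, hl])) (by
        show (yon S).map _ ≫ (yon S).map (EtOver.homOfEtale V) ≫ E₀.obj.hom = Z.left.obj.hom
        rw [← EtOver.w g, ← Category.assoc, ← Functor.map_comp]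
        congr 2)
    refine ⟨V, ⟨Over.isoMk ⟨a, b, EtOver.hom_ext _ _ (Over.OverMorphism.ext (Category.id_comp _)),
      EtOver.hom_ext _ _ (Over.OverMorphism.ext (Category.id_comp _))⟩ ?_⟩⟩
    exact EtOver.hom_ext _ _ (Over.OverMorphism.ext (Category.id_comp _))

instance : (sliceFun E₀).IsEquivalence := Functor.IsEquivalence.mk inferInstance inferInstance inferInstance

/-- Coverings go to coverings. -/
theorem coverPreserving :
    CoverPreserving E₀.obj.left.left.smallEtaleTopology ((etTop X).over E₀) (sliceFun E₀) where
  cover_preserve {V R} hR := by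
    rw [GrothendieckTopology.mem_over_iff]
    refine AlgSpLib.StalkPoint.mem_etTop_of_jointly_surjective _ fun x => ?_
    obtain ⟨ι, Z, f, rfl⟩ := R.exists_eq_ofArrows
    rw [Scheme.ofArrows_mem_smallEtaleTopology_iff] at hR
    obtain ⟨i, hi⟩ := Set.mem_iUnion.1 (hR.ge (Set.mem_univ x))
    refine ⟨(chart E₀).obj (Z i), (chart E₀).map (f i), ?_, hi⟩
    rw [Sieve.overEquiv_iff]
    have h := Sieve.image_mem_functorPushforward (sliceFun E₀) (Sieve.ofArrows Z f)
      (Sieve.ofArrows_mk Z f i)
    have hZ : Over.mk ((chart E₀).map (f i) ≫ (str E₀ V)) = (sliceFun E₀).obj (Z i) :=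
      congrArg Over.mk (Over.w ((sliceFun E₀).map (f i)))
    let c : Over.mk ((chart E₀).map (f i) ≫ (str E₀ V)) ⟶ (sliceFun E₀).obj (Z i) :=
      Over.homMk (𝟙 _) ((Category.id_comp _).trans (Over.w ((sliceFun E₀).map (f i))).symm)
    have hc := Sieve.downward_closed _ h c
    convert hc using 1
    · rfl
    · apply Over.OverMorphism.ext
      simp [c, sliceFun]

variable (P : GrothendieckTopology.Point.{u} (etTop X)) (u₀ : P.fiber.obj E₀)

instance : (Functor.Elements.precomp (sliceFun E₀) (P.over u₀).fiber).Faithful where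
  map_injective {a b} f g h := CategoryOfElements.ext _ _ _ ((sliceFun E₀).map_injective (congrArg Subtype.val h))

instance : (Functor.Elements.precomp (sliceFun E₀) (P.over u₀).fiber).Full where
  map_surjective {a b} g := by
    obtain ⟨g, hg⟩ := g
    obtain ⟨f, rfl⟩ := (sliceFun E₀).map_surjective g
    exact ⟨⟨f, hg⟩, rfl⟩

instance : (Functor.Elements.precomp (sliceFun E₀) (P.over u₀).fiber).EssSurj where
  mem_essImage Z := by
    let e := (sliceFun E₀).objObjPreimageIso Z.1
    refine ⟨⟨(sliceFun E₀).objPreimage Z.1, (P.over u₀).fiber.map e.inv Z.2⟩,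
      ⟨CategoryOfElements.isoMk _ _ e ?_⟩⟩
    exact congr($((Functor.mapIso (P.over u₀).fiber e).inv_hom_id) Z.2)

instance : (Functor.Elements.precomp (sliceFun E₀) (P.over u₀).fiber).IsEquivalence :=
  Functor.IsEquivalence.mk inferInstance inferInstance inferInstance

instance : InitiallySmall.{u} ((sliceFun E₀) ⋙ (P.over u₀).fiber).Elements :=
  haveI := (P.over u₀).initiallySmall
  initiallySmall_of_initial_of_initiallySmall
    (Functor.Elements.precomp (sliceFun E₀) (P.over u₀).fiber).inv

/-- The point of the small étale site of the chart. -/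
def chartPoint : GrothendieckTopology.Point.{u} E₀.obj.left.left.smallEtaleTopology :=
  (P.over u₀).comap (sliceFun E₀) (coverPreserving E₀)

end Groth.Agent.EtPointChart
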