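import Groth.Agent.EtPointGeom.Basic
import Groth.Agent.HenselChart.Count

/-!
Every point of the small étale site is the point of a geometric point.
-/

set_option autoImplicit false
set_option linter.style.haveILetI false
set_option backward.isDefEq.respectTransparency false
set_option backward.isDefEq.respectTransparency.types false
set_option maxHeartbeats 1000000

universe u

open CategoryTheory CategoryTheory.Limits AlgebraicGeometry Opposite TopologicalSpace

noncomputable section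

namespace Groth.Agent.EtPointGeom

variable {S : Scheme.{u}} (p : GrothendieckTopology.Point.{u} S.smallEtaleTopology)

/-- geometric points of an étale scheme over a given one, at a given point, are finitely many -/
theorem finite_lifts_at {Ω : Type u} [Field Ω] (ξ : Spec (CommRingCat.of Ω) ⟶ S) (U : S.Etale) (y : U.left) :
    Finite {l : Spec (CommRingCat.of Ω) ⟶ U.left // l ≫ U.hom = ξ ∧ l default = y} := by
  haveI := U.prop
  obtain ⟨V, hV, hyV, -⟩ := exists_isAffineOpen_mem_and_subset (X := S) (x := U.hom y) (U := ⊤) trivial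
  obtain ⟨W, hW, hyW, hWV⟩ := exists_isAffineOpen_mem_and_subset (X := U.left) (x := y) (U := U.hom ⁻¹ᵁ V) hyV
  by_cases hex : ∃ l : Spec (CommRingCat.of Ω) ⟶ U.left, l ≫ U.hom = ξ ∧ l default = y
  swap
  · exact @Finite.of_subsingleton _ ⟨fun l => absurd ⟨l.1, l.2⟩ hex⟩
  obtain ⟨l₀, hl₀, hl₀y⟩ := hex
  have hfac : ∀ l : Spec (CommRingCat.of Ω) ⟶ U.left, l default = y →
      Set.range l ⊆ Set.range W.ι := fun l hl => by
    rintro _ ⟨t, rfl⟩
    rw [Scheme.Opens.range_ι, Subsingleton.elim (α := Spec (CommRingCat.of Ω)) t default, hl]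
    exact hyW
  haveI : IsAffine W.toScheme := hW
  haveI : IsAffine V.toScheme := hV
  let h : W.toScheme ⟶ V.toScheme := U.hom.resLE V W hWV
  haveI : Etale h := inferInstance
  let l₁ := IsOpenImmersion.lift W.ι l₀ (hfac l₀ hl₀y)
  let g := l₁ ≫ h
  haveI := Groth.Agent.HenselChart.finite_lifts h (⟨y, hyW⟩ : W) g
  refine Finite.of_injective (β := {l : Spec (CommRingCat.of Ω) ⟶ W.toScheme //
      l ≫ h = g ∧ l (IsLocalRing.closedPoint Ω) = ⟨y, hyW⟩})
    (fun l => ⟨IsOpenImmersion.lift W.ι l.1 (hfac l.1 l.2.2), ?_, ?_⟩) fun l l' e => ?_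
  · rw [← cancel_mono V.ι]
    simp only [g, l₁, h, Category.assoc, Scheme.Hom.resLE_comp_ι, IsOpenImmersion.lift_fac_assoc, l.2.1, hl₀]
  · apply W.ι.isOpenEmbedding.injective
    show (IsOpenImmersion.lift W.ι l.1 _ ≫ W.ι) (IsLocalRing.closedPoint Ω) = y
    rw [IsOpenImmersion.lift_fac, Subsingleton.elim (α := Spec (CommRingCat.of Ω)) (IsLocalRing.closedPoint Ω) default,
      l.2.2]
  · have := congrArg (fun f => f.1 ≫ W.ι) e
    exact Subtype.ext (by simpa using this)

/-- The equalizer of two maps to an étale scheme is open, and contains the points of the geometric points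
equalizing them. -/
theorem exists_eq_open {W U : S.Etale} (a b : W ⟶ U) :
    ∃ E : W.left.Opens, opnι W E ≫ a = opnι W E ≫ b ∧
      ∀ {Ω : Type u} [Field Ω] (l : Spec (CommRingCat.of Ω) ⟶ W.left),
        l ≫ a.left = l ≫ b.left → l default ∈ E := by
  haveI := U.prop
  let Δ := pullback.diagonal U.hom
  let c : W.left ⟶ pullback U.hom U.hom := pullback.lift a.left b.left
    ((MorphismProperty.Over.w a).trans (MorphismProperty.Over.w b).symm)
  let E : W.left.Opens := c ⁻¹ᵁ Δ.opensRange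
  refine ⟨E, ?_, fun {Ω} _ l hl => ?_⟩
  · let k := IsOpenImmersion.lift Δ (E.ι ≫ c) (by
      rintro _ ⟨t, rfl⟩
      exact t.2)
    have hk : k ≫ Δ = E.ι ≫ c := IsOpenImmersion.lift_fac _ _ _
    apply MorphismProperty.Over.Hom.ext
    show E.ι ≫ a.left = E.ι ≫ b.left
    have h1 := congrArg (· ≫ pullback.fst U.hom U.hom) hk
    have h2 := congrArg (· ≫ pullback.snd U.hom U.hom) hk
    simp only [Category.assoc, Δ, c, pullback.diagonal_fst, pullback.diagonal_snd, pullback.lift_fst,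
      pullback.lift_snd, Category.comp_id] at h1 h2
    rw [← h1, ← h2]
  · show c (l default) ∈ Δ.opensRange
    have e : l ≫ c = (l ≫ a.left) ≫ Δ := by
      apply pullback.hom_ext
      · simp [c, Δ]
      · simp [c, Δ, hl]
    exact ⟨(l ≫ a.left) default, (congr($e default)).symm⟩

/-- The étale fibre product with its projections. -/
theorem exists_prod (U W : S.Etale) :
    ∃ (P : S.Etale) (a : P ⟶ U) (b : P ⟶ W), LocallyQuasiFinite b.left ∧
      ∀ {Ω : Type u} [Field Ω] (l : Spec (CommRingCat.of Ω) ⟶ U.left) (l' : Spec (CommRingCat.of Ω) ⟶ W.left),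
        l ≫ U.hom = l' ≫ W.hom → ∃ m : Spec (CommRingCat.of Ω) ⟶ P.left,
          m ≫ a.left = l ∧ m ≫ b.left = l' := by
  haveI := U.prop
  haveI := W.prop
  refine ⟨Scheme.Etale.mk (pullback.fst U.hom W.hom ≫ U.hom),
    MorphismProperty.Over.homMk (pullback.fst U.hom W.hom) rfl,
    MorphismProperty.Over.homMk (pullback.snd U.hom W.hom) pullback.condition.symm, ?_,
    fun {Ω} _ l l' h => ⟨pullback.lift l l' h, pullback.lift_fst _ _ _, pullback.lift_snd _ _ _⟩⟩
  exact Groth.Agent.UnivInjMor.lqf_of_unramified (pullback.snd U.hom W.hom)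

/-- Every point of the small étale site is a geometric point, over an algebraically closed field. -/
theorem exists_geometric_algClosed :
    ∃ (Ω : Type u) (_ : Field Ω) (_ : IsAlgClosed Ω) (ξ : Spec (CommRingCat.of Ω) ⟶ S),
      Nonempty (p.fiber ≅ (Scheme.pointSmallEtale ξ).fiber) := by
  classical
  obtain ⟨e₀⟩ := (IsCofiltered.nonempty : Nonempty p.fiber.Elements)
  let x₀ : S := e₀.1.hom (pt p e₀.2)
  let Ω : Type u := AlgebraicClosure (S.residueField x₀)
  let ξ : Spec (CommRingCat.of Ω) ⟶ S :=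
    Spec.map (CommRingCat.ofHom (algebraMap (S.residueField x₀) Ω)) ≫ S.fromSpecResidueField x₀
  have hξ : ξ default = x₀ := by
    show S.fromSpecResidueField x₀ _ = x₀
    exact Scheme.fromSpecResidueField_apply _ _
  -- compatible geometric points
  let L : p.fiber.Elements → Type u := fun e =>
    {l : Spec (CommRingCat.of Ω) ⟶ e.1.left // l ≫ e.1.hom = ξ ∧ l default = pt p e.2}
  let F : p.fiber.Elements ⥤ Type u :=
    { obj := L
      map := fun {e e'} f => ↾fun (l : L e) =>
        (⟨l.1 ≫ f.1.left, by rw [Category.assoc, MorphismProperty.Over.w f.1]; exact l.2.1, by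
          rw [Scheme.Hom.comp_apply, l.2.2, pt_map, f.2]⟩ : L e')
      map_id := fun e => by
        refine ConcreteCategory.hom_ext _ _ fun l => Subtype.ext ?_
        exact Category.comp_id l.1
      map_comp := fun f g => by
        refine ConcreteCategory.hom_ext _ _ fun l => Subtype.ext ?_
        exact (Category.assoc l.1 _ _).symm }
  haveI : ∀ e, Finite (F.obj e) := fun e => finite_lifts_at ξ e.1 (pt p e.2)
  haveI : ∀ e, Nonempty (F.obj e) := fun e => by
    haveI := e.1.prop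
    obtain ⟨l, h1, h2⟩ := Scheme.exists_fac_of_etale_of_isSepClosed e.1.hom ξ (pt p e.2)
      ((pt_base p e.2 e₀.2).trans hξ.symm)
    exact ⟨⟨l, h1, h2⟩⟩
  obtain ⟨σ, hσ⟩ := nonempty_sections_of_finite_cofiltered_system F
  let geo : ∀ {U : S.Etale}, p.fiber.obj U → (Spec (CommRingCat.of Ω) ⟶ U.left) := fun {U} u =>
    (σ ⟨U, u⟩).1
  have geo_hom : ∀ {U : S.Etale} (u : p.fiber.obj U), geo u ≫ U.hom = ξ := fun {U} u => (σ ⟨U, u⟩).2.1
  have geo_pt : ∀ {U : S.Etale} (u : p.fiber.obj U), geo u default = pt p u := fun {U} u => (σ ⟨U, u⟩).2.2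
  have geo_map : ∀ {U V : S.Etale} (f : U ⟶ V) (u : p.fiber.obj U),
      geo u ≫ f.left = geo (p.fiber.map f u) := fun {U V} f u =>
    congrArg Subtype.val (hσ (j := ⟨U, u⟩) (j' := ⟨V, p.fiber.map f u⟩) ⟨f, rfl⟩)
  have inj : ∀ (U : S.Etale) (u v : p.fiber.obj U), geo u = geo v → u = v := by
    intro U u v h
    obtain ⟨Z, a, b, -⟩ := IsCofilteredOrEmpty.cone_objs (C := p.fiber.Elements) ⟨U, u⟩ ⟨U, v⟩
    obtain ⟨E, hE, hmem⟩ := exists_eq_open a.1 b.1
    have hl : geo Z.2 ≫ a.1.left = geo Z.2 ≫ b.1.left := by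
      rw [geo_map, geo_map, a.2, b.2]; exact h
    obtain ⟨z, hz⟩ := (mem_iff p Z.2 E).1 (geo_pt Z.2 ▸ hmem _ hl)
    have h1 : p.fiber.map (opnι Z.1 E ≫ a.1) z = u :=
      (fmap_comp p _ _ _).trans ((congrArg (p.fiber.map a.1) hz).trans a.2)
    have h2 : p.fiber.map (opnι Z.1 E ≫ b.1) z = v :=
      (fmap_comp p _ _ _).trans ((congrArg (p.fiber.map b.1) hz).trans b.2)
    rw [← h1, ← h2, hE]
  have surj : ∀ (U : S.Etale) (ψ : Spec (CommRingCat.of Ω) ⟶ U.left), ψ ≫ U.hom = ξ →
      ∃ u : p.fiber.obj U, geo u = ψ := by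
    intro U ψ hψ
    let y := ψ default
    haveI := finite_lifts_at ξ U y
    let A := {l : {l : Spec (CommRingCat.of Ω) ⟶ U.left // l ≫ U.hom = ξ ∧ l default = y} //
      ∃ u : p.fiber.obj U, geo u = l.1}
    haveI : Fintype A := Fintype.ofFinite A
    choose c hc using fun l : A => l.2
    obtain ⟨W, hW⟩ := IsCofiltered.inf_objs_exists (C := p.fiber.Elements)
      (Finset.univ.image fun l : A => (⟨U, c l⟩ : p.fiber.Elements))
    obtain ⟨P, pr₁, pr₂, hlqf, hP⟩ := exists_prod U W.1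
    obtain ⟨m, hm₁, hm₂⟩ := hP ψ (geo W.2) (hψ.trans (geo_hom W.2).symm)
    let q := m default
    have hq₂ : pr₂.left q = pt p W.2 := by
      rw [← geo_pt, ← hm₂]; rfl
    haveI := hlqf
    have hd := pr₂.left.isDiscrete_preimage_singleton (pt p W.2)
    obtain ⟨O, hO, hOq⟩ : ∃ O : P.left.Opens, q ∈ O ∧ ∀ z ∈ O, pr₂.left z = pt p W.2 → z = q := by
      haveI := isDiscrete_iff_discreteTopology.1 hd
      obtain ⟨O, hO, hOe⟩ := isOpen_induced_iff.1
        (isOpen_discrete ({⟨q, hq₂⟩} : Set (pr₂.left ⁻¹' {pt p W.2})))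
      refine ⟨⟨O, hO⟩, (Set.ext_iff.1 hOe ⟨q, hq₂⟩).2 rfl, fun z hz hz' => ?_⟩
      exact congrArg Subtype.val ((Set.ext_iff.1 hOe ⟨z, hz'⟩).1 hz)
    obtain ⟨v', hv'⟩ := exists_lift p (opnι P O ≫ pr₂) W.2 ⟨⟨q, hO⟩, hq₂⟩
    let v : p.fiber.obj P := p.fiber.map (opnι P O) v'
    have hv : p.fiber.map pr₂ v = W.2 := by rw [← fmap_comp]; exact hv'
    have hvO : pt p v ∈ O := (mem_iff p v O).2 ⟨v', rfl⟩
    have hvq : pt p v = q := hOq _ hvO (by rw [pt_map, hv])
    let u := p.fiber.map pr₁ v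
    have hu : geo u default = y := by
      rw [geo_pt, ← pt_map, hvq]
      exact congr($hm₁ default)
    let l₀ : A := ⟨⟨geo u, geo_hom u, hu⟩, u, rfl⟩
    obtain ⟨a⟩ := hW (X := ⟨U, c l₀⟩) (Finset.mem_image_of_mem _ (Finset.mem_univ l₀))
    have key : geo W.2 ≫ a.1.left = geo u := by
      rw [geo_map, a.2]; exact hc l₀
    obtain ⟨E, hE, hmem⟩ := exists_eq_open pr₁ (pr₂ ≫ a.1)
    have hqE : q ∈ E := by
      rw [← hvq, ← geo_pt]
      refine hmem _ ?_
      show geo v ≫ pr₁.left = geo v ≫ pr₂.left ≫ a.1.left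
      rw [← Category.assoc, geo_map, geo_map, hv, key]
    let m' := IsOpenImmersion.lift E.ι m (by
      rintro _ ⟨t, rfl⟩
      rw [Scheme.Opens.range_ι, Subsingleton.elim (α := Spec (CommRingCat.of Ω)) t default]
      exact hqE)
    refine ⟨c l₀, ?_⟩
    rw [hc]
    show geo u = ψ
    have hE' : E.ι ≫ pr₁.left = E.ι ≫ pr₂.left ≫ a.1.left := congr(($hE).left)
    rw [← key, ← hm₂, ← hm₁, ← IsOpenImmersion.lift_fac E.ι m (by
      rintro _ ⟨t, rfl⟩
      rw [Scheme.Opens.range_ι, Subsingleton.elim (α := Spec (CommRingCat.of Ω)) t default]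
      exact hqE)]
    simp only [Category.assoc, hE']
  let η : ∀ U : S.Etale, p.fiber.obj U ≃ (Scheme.pointSmallEtale ξ).fiber.obj U := fun U =>
    Equiv.ofBijective (fun u => (Over.homMk (geo u) (geo_hom u) : Over.mk ξ ⟶ (Scheme.Etale.forget S).obj U))
      ⟨fun u v h => inj U u v (congrArg CommaMorphism.left h), fun l => by
        obtain ⟨u, hu⟩ := surj U (show Over.mk ξ ⟶ (Scheme.Etale.forget S).obj U from l).left
          (Over.w (show Over.mk ξ ⟶ (Scheme.Etale.forget S).obj U from l))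
        exact ⟨u, Over.OverMorphism.ext hu⟩⟩
  refine ⟨Ω, inferInstance, inferInstance, ξ, ⟨NatIso.ofComponents (fun U => (η U).toIso) fun {U V} f => ?_⟩⟩
  refine ConcreteCategory.hom_ext _ _ fun u => Over.OverMorphism.ext ?_
  exact (geo_map f u).symm

/-- **Every point of the small étale site is a geometric point.** -/
theorem exists_geometric :
    ∃ (Ω : Type u) (_ : Field Ω) (_ : IsSepClosed Ω) (ξ : Spec (CommRingCat.of Ω) ⟶ S),
      Nonempty (p.fiber ≅ (Scheme.pointSmallEtale ξ).fiber) := by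
  obtain ⟨Ω, _, _, ξ, h⟩ := exists_geometric_algClosed p
  exact ⟨Ω, inferInstance, inferInstance, ξ, h⟩

end Groth.Agent.EtPointGeom
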