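import Groth.Agent.EtPointGeom.Chart
import Mathlib.CategoryTheory.Sites.Point.Category

/-!
Points of the small étale site of an algebraic space are geometric.
-/

set_option autoImplicit false
set_option linter.style.haveILetI false
set_option linter.unusedVariables false
set_option backward.isDefEq.respectTransparency false
set_option backward.isDefEq.respectTransparency.types false
set_option maxHeartbeats 1000000

universe u

open CategoryTheory CategoryTheory.Limits AlgebraicGeometry Opposite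

noncomputable section

namespace Groth.Agent.EtPointChart

open _root_.AlgSp

variable {S : Scheme.{u}} {X : Sp S} (E₀ : EtOver X)

/-- The fibre product of an object with the chart is in the small étale site of the chart. -/
theorem exists_prod (E : EtOver X) :
    ∃ (V : E₀.obj.left.left.Etale) (pr : (chart E₀).obj V ⟶ E),
      (∀ (Y : Over S) (a : Y ⟶ E.obj.left) (b : Y ⟶ E₀.obj.left),
        (yon S).map a ≫ E.obj.hom = (yon S).map b ≫ E₀.obj.hom →
        ∃ c : Y ⟶ EtOver.overOfEtale V, c ≫ pr.hom.left = a ∧ c ≫ EtOver.homOfEtale V = b) ∧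
      ∀ (Y : Over S) (c c' : Y ⟶ EtOver.overOfEtale V), c ≫ pr.hom.left = c' ≫ pr.hom.left →
        c ≫ EtOver.homOfEtale V = c' ≫ EtOver.homOfEtale V → c = c' := by
  obtain ⟨W, snd, fst, sq⟩ := E.property.1 E₀.obj.hom
  haveI hsnd : Etale snd.left := E.property.2 E₀.obj.hom fst snd sq
  obtain ⟨f, hf⟩ := (yon S).map_surjective fst
  subst hf
  let V : E₀.obj.left.left.Etale := Scheme.Etale.mk snd.left
  let k : EtOver.overOfEtale V ⟶ W := Over.homMk (𝟙 _) ((Category.id_comp _).trans (Over.w snd).symm)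
  let k' : W ⟶ EtOver.overOfEtale V := Over.homMk (𝟙 _) ((Category.id_comp _).trans (Over.w snd))
  have hkk : k' ≫ k = 𝟙 W := Over.OverMorphism.ext (Category.id_comp _)
  have hkk' : k ≫ k' = 𝟙 _ := Over.OverMorphism.ext (Category.id_comp _)
  have hks : k ≫ snd = EtOver.homOfEtale V := Over.OverMorphism.ext (Category.id_comp _)
  have hw : (yon S).map (k ≫ f) ≫ E.obj.hom = (yon S).map (EtOver.homOfEtale V) ≫ E₀.obj.hom := by
    rw [← hks, Functor.map_comp, Functor.map_comp, Category.assoc, Category.assoc, sq.w]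
  refine ⟨V, EtOver.homMk (E := (chart E₀).obj V) (E' := E) (k ≫ f) hw, fun Y a b h => ?_,
    fun Y c c' h₁ h₂ => ?_⟩
  · obtain ⟨t, ht⟩ := (yon S).map_surjective (sq.lift ((yon S).map a) ((yon S).map b) h)
    have h₁ : t ≫ f = a := (yon S).map_injective (by rw [Functor.map_comp, ht]; exact sq.lift_fst _ _ _)
    have h₂ : t ≫ snd = b := (yon S).map_injective (by rw [Functor.map_comp, ht]; exact sq.lift_snd _ _ _)
    refine ⟨t ≫ k', ?_, ?_⟩
    · show (t ≫ k') ≫ k ≫ f = a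
      rw [Category.assoc, ← Category.assoc k', hkk, Category.id_comp, h₁]
    · rw [← hks, Category.assoc, ← Category.assoc k', hkk, Category.id_comp, h₂]
  · change c ≫ k ≫ f = c' ≫ k ≫ f at h₁
    rw [← hks] at h₂
    have : (c ≫ k : Y ⟶ W) = c' ≫ k := by
      apply (yon S).map_injective
      apply sq.hom_ext
      · rw [← Functor.map_comp, ← Functor.map_comp, Category.assoc, Category.assoc, h₁]
      · rw [← Functor.map_comp, ← Functor.map_comp, Category.assoc, Category.assoc, h₂]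
    simpa [Category.assoc, hkk'] using congrArg (· ≫ k') this

variable (P : GrothendieckTopology.Point.{u} (etTop X)) (u₀ : P.fiber.obj E₀)

theorem fiber_comp {A B C : EtOver X} (f : A ⟶ B) (g : B ⟶ C) (x : P.fiber.obj A) :
    P.fiber.map (f ≫ g) x = P.fiber.map g (P.fiber.map f x) := by
  rw [Functor.map_comp]; rfl

/-- Every element comes from the chart. -/
theorem exists_elem (E : EtOver X) (V : E₀.obj.left.left.Etale) (pr : (chart E₀).obj V ⟶ E)
    (hprod : ∀ (Y : Over S) (a : Y ⟶ E.obj.left) (b : Y ⟶ E₀.obj.left),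
        (yon S).map a ≫ E.obj.hom = (yon S).map b ≫ E₀.obj.hom →
        ∃ c : Y ⟶ EtOver.overOfEtale V, c ≫ pr.hom.left = a ∧ c ≫ EtOver.homOfEtale V = b)
    (u : P.fiber.obj E) :
    ∃ w : (chartPoint E₀ P u₀).fiber.obj V, P.fiber.map pr w.1 = u := by
  obtain ⟨Z, a, b, -⟩ := IsCofilteredOrEmpty.cone_objs (C := P.fiber.Elements) ⟨E, u⟩ ⟨E₀, u₀⟩
  obtain ⟨c, hc₁, hc₂⟩ := hprod Z.1.obj.left a.1.hom.left b.1.hom.left
    ((EtOver.w a.1).trans (EtOver.w b.1).symm)
  let c' : Z.1 ⟶ (chart E₀).obj V := EtOver.homMk (E := Z.1) (E' := (chart E₀).obj V) c (by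
    show (yon S).map c ≫ (yon S).map (EtOver.homOfEtale V) ≫ E₀.obj.hom = Z.1.obj.hom
    rw [← Category.assoc, ← Functor.map_comp, hc₂]
    exact EtOver.w b.1)
  have h₁ : c' ≫ pr = a.1 := EtOver.hom_ext _ _ hc₁
  have h₂ : c' ≫ str E₀ V = b.1 := EtOver.hom_ext _ _ hc₂
  exact ⟨⟨P.fiber.map c' Z.2, (fiber_comp P c' (str E₀ V) Z.2).symm.trans (h₂ ▸ b.2)⟩,
    (fiber_comp P c' pr Z.2).symm.trans (h₁ ▸ a.2)⟩

/-- Two maps from a chart object equal on an element agree after a refinement in the chart. -/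
theorem exists_refine {V : E₀.obj.left.left.Etale} (w : (chartPoint E₀ P u₀).fiber.obj V)
    {E : EtOver X} (A B : (chart E₀).obj V ⟶ E) (h : P.fiber.map A w.1 = P.fiber.map B w.1) :
    ∃ (V' : E₀.obj.left.left.Etale) (k : V' ⟶ V) (w' : (chartPoint E₀ P u₀).fiber.obj V'),
      (chartPoint E₀ P u₀).fiber.map k w' = w ∧ (chart E₀).map k ≫ A = (chart E₀).map k ≫ B := by
  let N : P.fiber.Elements := Functor.elementsMk _ _ w.1
  let M : P.fiber.Elements := Functor.elementsMk _ _ (P.fiber.map A w.1)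
  let a : N ⟶ M := CategoryOfElements.homMk N M A rfl
  let b : N ⟶ M := CategoryOfElements.homMk N M B h.symm
  obtain ⟨Z, c, hc⟩ := IsCofilteredOrEmpty.cone_maps a b
  let T : Over E₀ := Over.mk (c.1 ≫ str E₀ V)
  let e := (sliceFun E₀).objObjPreimageIso T
  let g : T ⟶ (sliceFun E₀).obj V := Over.homMk c.1 rfl
  obtain ⟨k, hk⟩ := (sliceFun E₀).map_surjective (e.hom ≫ g)
  let z : (P.over u₀).fiber.obj T := ⟨Z.2, by
    show P.fiber.map (c.1 ≫ str E₀ V) Z.2 = u₀
    rw [fiber_comp, c.2]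
    exact w.2⟩
  refine ⟨_, k, (P.over u₀).fiber.map e.inv z, ?_, ?_⟩
  · show (P.over u₀).fiber.map ((sliceFun E₀).map k) ((P.over u₀).fiber.map e.inv z) = w
    rw [hk, ← Functor.map_comp_apply, Iso.inv_hom_id_assoc]
    exact Subtype.ext c.2
  · have hk' : (chart E₀).map k = e.hom.left ≫ c.1 := congrArg CommaMorphism.left hk
    rw [hk', Category.assoc, Category.assoc]
    exact congrArg (e.hom.left ≫ ·) (congrArg Subtype.val hc)

variable {Ω : Type u} [Field Ω] [IsSepClosed Ω] (ξ : Spec (CommRingCat.of Ω) ⟶ E₀.obj.left.left)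

/-- The point of the sheaf. -/
def fieldPt : FieldPt X :=
  ⟨Ω, ξ ≫ E₀.obj.left.hom, (J S).uliftYonedaEquiv
    ((yon S).map (Over.homMk ξ rfl : Over.mk (ξ ≫ E₀.obj.left.hom) ⟶ E₀.obj.left) ≫ E₀.obj.hom)⟩

/-- The lift to the chart. -/
def baseLift : (fieldPt E₀ ξ).pt ⟶ E₀.obj.left := Over.homMk ξ rfl

theorem fieldPt_toHom : (fieldPt E₀ ξ).toHom = (yon S).map (baseLift E₀ ξ) ≫ E₀.obj.hom :=
  (J S).uliftYonedaEquiv.symm_apply_apply _

variable (ι : (chartPoint E₀ P u₀).fiber ≅ (Scheme.pointSmallEtale ξ).fiber)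

/-- The lift attached to an element of a chart object. -/
def chartLift {V : E₀.obj.left.left.Etale} (w : (chartPoint E₀ P u₀).fiber.obj V) :
    (fieldPt E₀ ξ).pt ⟶ EtOver.overOfEtale V :=
  let t : Over.mk ξ ⟶ (Scheme.Etale.forget _).obj V := ι.hom.app V w
  Over.homMk t.left (by
    show t.left ≫ V.hom ≫ E₀.obj.left.hom = ξ ≫ E₀.obj.left.hom
    rw [← Category.assoc]
    exact congrArg (· ≫ E₀.obj.left.hom) (Over.w t))

theorem chartLift_str {V : E₀.obj.left.left.Etale} (w : (chartPoint E₀ P u₀).fiber.obj V) :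
    chartLift E₀ P u₀ ξ ι w ≫ EtOver.homOfEtale V = baseLift E₀ ξ :=
  Over.OverMorphism.ext (Over.w (show Over.mk ξ ⟶ (Scheme.Etale.forget _).obj V from ι.hom.app V w))

theorem chartLift_map {V' V : E₀.obj.left.left.Etale} (k : V' ⟶ V)
    (w : (chartPoint E₀ P u₀).fiber.obj V') :
    chartLift E₀ P u₀ ξ ι ((chartPoint E₀ P u₀).fiber.map k w) =
      chartLift E₀ P u₀ ξ ι w ≫ ((chart E₀).map k).hom.left :=
  Over.OverMorphism.ext (congrArg (fun t : Over.mk ξ ⟶ (Scheme.Etale.forget _).obj V => t.left)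
    (NatTrans.naturality_apply ι.hom k w))

theorem lift_indep {E : EtOver X} {V V' : E₀.obj.left.left.Etale}
    (pr : (chart E₀).obj V ⟶ E) (pr' : (chart E₀).obj V' ⟶ E)
    (w : (chartPoint E₀ P u₀).fiber.obj V) (w' : (chartPoint E₀ P u₀).fiber.obj V')
    (h : P.fiber.map pr w.1 = P.fiber.map pr' w'.1) :
    chartLift E₀ P u₀ ξ ι w ≫ pr.hom.left = chartLift E₀ P u₀ ξ ι w' ≫ pr'.hom.left := by
  obtain ⟨Z, a, b, -⟩ :=
    IsCofilteredOrEmpty.cone_objs (C := (chartPoint E₀ P u₀).fiber.Elements) ⟨V, w⟩ ⟨V', w'⟩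
  obtain ⟨V₂, k, w₂, hk, he⟩ := exists_refine E₀ P u₀ Z.2 ((chart E₀).map a.1 ≫ pr)
    ((chart E₀).map b.1 ≫ pr') (by
      rw [fiber_comp, fiber_comp]
      exact ((congrArg (P.fiber.map pr) (congrArg Subtype.val a.2)).trans h).trans
        (congrArg (P.fiber.map pr') (congrArg Subtype.val b.2)).symm)
  have hA : chartLift E₀ P u₀ ξ ι Z.2 = chartLift E₀ P u₀ ξ ι w₂ ≫ ((chart E₀).map k).hom.left :=
    (congrArg (chartLift E₀ P u₀ ξ ι) hk.symm).trans (chartLift_map E₀ P u₀ ξ ι k w₂)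
  have ha : chartLift E₀ P u₀ ξ ι w = chartLift E₀ P u₀ ξ ι Z.2 ≫ ((chart E₀).map a.1).hom.left :=
    (congrArg (chartLift E₀ P u₀ ξ ι) a.2.symm).trans (chartLift_map E₀ P u₀ ξ ι a.1 Z.2)
  have hb : chartLift E₀ P u₀ ξ ι w' = chartLift E₀ P u₀ ξ ι Z.2 ≫ ((chart E₀).map b.1).hom.left :=
    (congrArg (chartLift E₀ P u₀ ξ ι) b.2.symm).trans (chartLift_map E₀ P u₀ ξ ι b.1 Z.2)
  rw [ha, hb, hA]
  simp only [Category.assoc]
  exact congrArg (chartLift E₀ P u₀ ξ ι w₂ ≫ ·) (congrArg (fun g => g.hom.left) he)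

include u₀ ι in
/-- **A point of the small étale site of a sheaf is the point of lifts of a geometric point.** -/
theorem nonempty_fiber_iso : Nonempty (P.fiber ≅ FieldPt.liftsTo (fieldPt E₀ ξ)) := by
  choose V pr hex huniq using exists_prod E₀
  choose w hw using fun (E : EtOver X) => exists_elem E₀ P u₀ E (V E) (pr E) (hex E)
  let φ : ∀ E : EtOver X, P.fiber.obj E → (FieldPt.liftsTo (fieldPt E₀ ξ)).obj E := fun E u =>
    ⟨chartLift E₀ P u₀ ξ ι (w E u) ≫ (pr E).hom.left, by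
      rw [fieldPt_toHom, Functor.map_comp, Category.assoc, EtOver.w (pr E)]
      show (yon S).map _ ≫ (yon S).map (EtOver.homOfEtale (V E)) ≫ E₀.obj.hom = _
      rw [← Category.assoc, ← Functor.map_comp, chartLift_str]⟩
  have hinj : ∀ E, Function.Injective (φ E) := fun E u u' h => by
    have h' := huniq E _ _ _ (congrArg Subtype.val h)
      ((chartLift_str E₀ P u₀ ξ ι _).trans (chartLift_str E₀ P u₀ ξ ι _).symm)
    have hww : w E u = w E u' := (ι.app (V E)).toEquiv.injective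
      (Over.OverMorphism.ext (congrArg (fun t : (fieldPt E₀ ξ).pt ⟶ EtOver.overOfEtale (V E) => t.left) h'))
    rw [← hw E u, ← hw E u', hww]
  have hsurj : ∀ E, Function.Surjective (φ E) := fun E l => by
    obtain ⟨c, hc₁, hc₂⟩ := hex E _ l.1 (baseLift E₀ ξ) (l.2.trans (fieldPt_toHom E₀ ξ))
    let t : (Scheme.pointSmallEtale ξ).fiber.obj (V E) :=
      (Over.homMk c.left (congrArg CommaMorphism.left hc₂) : Over.mk ξ ⟶ (Scheme.Etale.forget _).obj (V E))
    let x := ι.inv.app (V E) t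
    have hx : ι.hom.app (V E) x = t := Iso.inv_hom_id_app_apply _ _ _
    have hl : chartLift E₀ P u₀ ξ ι x = c :=
      Over.OverMorphism.ext (congrArg (fun t : Over.mk ξ ⟶ (Scheme.Etale.forget _).obj (V E) => t.left) hx)
    refine ⟨P.fiber.map (pr E) x.1, Subtype.ext ?_⟩
    show chartLift E₀ P u₀ ξ ι (w E _) ≫ (pr E).hom.left = l.1
    rw [lift_indep E₀ P u₀ ξ ι (pr E) (pr E) (w E _) x (hw E _), hl, hc₁]
  refine ⟨NatIso.ofComponents (fun E => (Equiv.ofBijective (φ E) ⟨hinj E, hsurj E⟩).toIso)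
    fun {E E'} g => ?_⟩
  refine ConcreteCategory.hom_ext _ _ fun u => Subtype.ext ?_
  show chartLift E₀ P u₀ ξ ι (w E' (P.fiber.map g u)) ≫ (pr E').hom.left =
    (chartLift E₀ P u₀ ξ ι (w E u) ≫ (pr E).hom.left) ≫ g.hom.left
  rw [lift_indep E₀ P u₀ ξ ι (pr E') (pr E ≫ g) (w E' (P.fiber.map g u)) (w E u)
    (by rw [hw, fiber_comp, hw]), Category.assoc]
  rfl

/-- An isomorphism of points gives an isomorphism of fibre functors. -/
def sheafFiberIso {C : Type*} [Category C] {J : GrothendieckTopology C} {A : Type*} [Category A]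
    {Φ₁ Φ₂ : GrothendieckTopology.Point.{u} J} [HasColimitsOfSize.{u, u} A] (e : Φ₁ ≅ Φ₂) :
    Φ₁.sheafFiber (A := A) ≅ Φ₂.sheafFiber where
  hom := GrothendieckTopology.Point.Hom.sheafFiber e.inv
  inv := GrothendieckTopology.Point.Hom.sheafFiber e.hom
  hom_inv_id := by rw [← GrothendieckTopology.Point.Hom.sheafFiber_comp, e.hom_inv_id]; simp
  inv_hom_id := by rw [← GrothendieckTopology.Point.Hom.sheafFiber_comp, e.inv_hom_id]; simp

end Groth.Agent.EtPointChart
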